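import Mathlib.RingTheory.Nakayama
import Mathlib.RingTheory.Jacobson.Ring
import Mathlib.RingTheory.Finiteness.Ideal
import Mathlib.RingTheory.Ideal.Operations
import Mathlib.FieldTheory.IsAlgClosed.Basic

/-! Surjectivity of finite maps from fibres over maximal ideals and cotangent maps. -/

set_option autoImplicit false
set_option linter.style.haveILetI false
universe u

namespace Groth.Agent.Clim57

/-- A finite map which is surjective modulo every maximal ideal of the source is surjective. -/
theorem surjective_of_forall_maximal {A B : Type u} [CommRing A] [CommRing B] [Algebra A B] [Module.Finite A B]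
    (h : ∀ (m : Ideal A), m.IsMaximal → ∀ b : B, ∃ a, b - algebraMap A B a ∈ m.map (algebraMap A B)) :
    Function.Surjective (algebraMap A B) := by
  let R := LinearMap.range (Algebra.linearMap A B)
  have htop : (⊤ : Submodule A (B ⧸ R)).annihilator = ⊤ := by
    by_contra hne
    obtain ⟨m, hm, hle⟩ := Ideal.exists_le_maximal _ hne
    obtain ⟨r, hr, hr0⟩ := Submodule.exists_sub_one_mem_and_smul_eq_zero_of_fg_of_le_smul m
      (⊤ : Submodule A (B ⧸ R)) Module.Finite.fg_top (fun x _ => by
        obtain ⟨b, rfl⟩ := R.mkQ_surjective x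
        obtain ⟨a, ha⟩ := h m hm b
        rw [show R.mkQ b = R.mkQ (b - algebraMap A B a) by
          rw [map_sub, show R.mkQ (algebraMap A B a) = 0 from (Submodule.Quotient.mk_eq_zero R).mpr ⟨a, rfl⟩, sub_zero]]
        have : b - algebraMap A B a ∈ m • (⊤ : Submodule A B) := by
          rw [Ideal.smul_top_eq_map]; exact ha
        have h2 := Submodule.mem_map_of_mem (f := R.mkQ) this
        rw [Submodule.map_smul''] at h2
        exact Submodule.smul_mono le_rfl le_top h2)
    have hrm : r ∈ m := hle (Submodule.mem_annihilator.mpr hr0)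
    exact hm.ne_top ((Ideal.eq_top_iff_one m).mpr (sub_sub_cancel r 1 ▸ sub_mem hrm hr))
  intro b
  have h1 := Submodule.mem_annihilator.mp ((Ideal.eq_top_iff_one _).mp htop) (R.mkQ b) trivial
  rw [one_smul] at h1
  exact (Submodule.Quotient.mk_eq_zero R).mp h1

/-- Unique maximal ideal over a maximal ideal and locally surjective cotangent map. -/
theorem maximal_eq_map {A B : Type u} [CommRing A] [CommRing B] [Algebra A B] [Module.Finite A B] [IsNoetherianRing B]
    (m : Ideal A) [m.IsMaximal] (n : Ideal B) [n.IsMaximal] (hn : n.comap (algebraMap A B) = m)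
    (huniq : ∀ n' : Ideal B, n'.IsMaximal → n'.comap (algebraMap A B) = m → n' = n)
    (hcot : ∀ z ∈ n, ∃ s ∉ n, s * z ∈ m.map (algebraMap A B) ⊔ n ^ 2) :
    m.map (algebraMap A B) = n := by
  haveI : Algebra.IsIntegral A B := Algebra.IsIntegral.of_finite A B
  set J := m.map (algebraMap A B)
  have hJn : J ≤ n := Ideal.map_le_iff_le_comap.mpr hn.ge
  refine le_antisymm hJn ?_
  have h2 : n ≤ J ⊔ n ^ 2 := fun z hz => by
    obtain ⟨s, hs, hsz⟩ := hcot z hz
    obtain ⟨t, u, hu, htu⟩ := Ideal.IsMaximal.exists_inv inferInstance hs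
    have h3 : (u ^ 2) * z ∈ J ⊔ n ^ 2 := Ideal.mem_sup_right (Ideal.mul_mem_right _ _ (Ideal.pow_mem_pow hu 2))
    have h4 : (t * (1 + u)) * (s * z) ∈ J ⊔ n ^ 2 := Ideal.mul_mem_left _ _ hsz
    have e : z = (t * (1 + u)) * (s * z) + u ^ 2 * z := by linear_combination -(1 + u) * z * htu
    rw [e]; exact add_mem h4 h3
  have hk : ∀ k, n ≤ J ⊔ n ^ (k + 1) := fun k => by
    induction k with
    | zero => simp
    | succ k ih =>
      refine ih.trans (sup_le le_sup_left ?_)
      calc n ^ (k + 1) = n ^ k * n := pow_succ _ _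
        _ ≤ n ^ k * (J ⊔ n ^ 2) := Ideal.mul_mono le_rfl h2
        _ ≤ J ⊔ n ^ (k + 1 + 1) := by
          rw [Ideal.mul_sup]
          refine sup_le (le_sup_of_le_left Ideal.mul_le_right) (le_sup_of_le_right ?_)
          rw [← pow_add]
  have hrad : n ≤ J.radical := by
    rw [Ideal.radical_eq_sInf]
    refine le_sInf fun p ⟨hJp, hp⟩ => ?_
    haveI := hp
    have hpm : p.comap (algebraMap A B) = m :=
      ((Ideal.IsMaximal.eq_of_le inferInstance (Ideal.IsPrime.comap _).ne_top
        (Ideal.map_le_iff_le_comap.mp hJp))).symm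
    exact (huniq p (Ideal.isMaximal_of_isIntegral_of_isMaximal_comap p
      (hpm ▸ ‹m.IsMaximal›)) hpm).ge
  obtain ⟨k, hk'⟩ := Ideal.exists_pow_le_of_le_radical_of_fg hrad (IsNoetherian.noetherian n)
  refine (hk k).trans (sup_le le_rfl ((Ideal.pow_le_pow_right (Nat.le_succ k)).trans hk'))

/-- The surjectivity criterion over an algebraically closed field. -/
theorem surjective_of_cotangent {k A B : Type u} [Field k] [IsAlgClosed k] [CommRing A] [CommRing B]
    [Algebra k A] [Algebra.FiniteType k A] [Algebra A B] [Module.Finite A B]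
    (hinj : ∀ n n' : Ideal B, n.IsMaximal → n'.IsMaximal →
      n.comap (algebraMap A B) = n'.comap (algebraMap A B) → n = n')
    (hcot : ∀ n : Ideal B, n.IsMaximal → ∀ z ∈ n, ∃ s ∉ n,
      s * z ∈ (n.comap (algebraMap A B)).map (algebraMap A B) ⊔ n ^ 2) :
    Function.Surjective (algebraMap A B) := by
  haveI : IsNoetherianRing A := Algebra.FiniteType.isNoetherianRing k A
  haveI : IsNoetherianRing B := isNoetherian_of_tower A (inferInstanceAs (IsNoetherian A B))
  haveI : Algebra.IsIntegral A B := Algebra.IsIntegral.of_finite A B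
  refine surjective_of_forall_maximal fun m hm b => ?_
  by_cases htop : m.map (algebraMap A B) = ⊤
  · exact ⟨0, by rw [htop]; trivial⟩
  obtain ⟨n, hn, hle⟩ := Ideal.exists_le_maximal _ htop
  haveI := hn
  haveI := hm
  have hnm : n.comap (algebraMap A B) = m := (hm.eq_of_le (Ideal.IsPrime.comap _).ne_top
    (Ideal.map_le_iff_le_comap.mp hle)).symm
  have hJ : m.map (algebraMap A B) = n := maximal_eq_map m n hnm
    (fun n' hn' h' => hinj n' n hn' hn (h'.trans hnm.symm)) (hnm ▸ hcot n hn)
  letI : Algebra k B := ((algebraMap A B).comp (algebraMap k A)).toAlgebra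
  haveI : IsScalarTower k A B := .of_algebraMap_eq fun _ => rfl
  haveI : Algebra.FiniteType A B := inferInstance
  haveI : Algebra.FiniteType k B := .trans (S := A) ‹_› ‹_›
  letI := Ideal.Quotient.field n
  haveI : Algebra.FiniteType k (B ⧸ n) := Algebra.FiniteType.of_surjective
    (Ideal.Quotient.mkₐ k n) Ideal.Quotient.mk_surjective
  haveI : Module.Finite k (B ⧸ n) := finite_of_finite_type_of_isJacobsonRing k (B ⧸ n)
  haveI : Algebra.IsIntegral k (B ⧸ n) := Algebra.IsIntegral.of_finite k (B ⧸ n)
  obtain ⟨c, hc⟩ := (IsAlgClosed.algebraMap_bijective_of_isIntegral (k := k) (K := B ⧸ n)).2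
    (Ideal.Quotient.mk n b)
  exact ⟨algebraMap k A c, hJ ▸ (Ideal.Quotient.eq.mp hc.symm)⟩

end Groth.Agent.Clim57
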