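import Groth.Agent.Clim57.Algebra
import Mathlib.AlgebraicGeometry.ZariskisMainTheorem
import Mathlib.AlgebraicGeometry.Morphisms.ClosedImmersion
import Mathlib.AlgebraicGeometry.Morphisms.FiniteType

/-! Closed immersion criterion: injective on closed points with surjective cotangent maps. -/

set_option autoImplicit false
set_option backward.isDefEq.respectTransparency.types false
set_option linter.style.haveILetI false
universe u
open CategoryTheory CategoryTheory.Limits AlgebraicGeometry TopologicalSpace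

namespace Groth.Agent.Clim57

theorem isClosedImmersion_of_cotangent {k : Type u} [Field k] [IsAlgClosed k]
    {X Y : Scheme.{u}} (f : X ⟶ Y) (q : Y ⟶ Spec (CommRingCat.of k)) [LocallyOfFiniteType q]
    [IsProper f]
    (hinj : Set.InjOn f.base {x : X | IsClosed ({x} : Set X)})
    (hT : ∀ x : X, IsClosed ({x} : Set X) →
      Ideal.map (f.stalkMap x).hom (IsLocalRing.maximalIdeal (Y.presheaf.stalk (f.base x))) ⊔
        IsLocalRing.maximalIdeal (X.presheaf.stalk x) ^ 2 = IsLocalRing.maximalIdeal (X.presheaf.stalk x)) :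
    IsClosedImmersion f := by
  haveI : JacobsonSpace ↥(Spec (CommRingCat.of k)) := inferInstanceAs (JacobsonSpace (PrimeSpectrum k))
  haveI : JacobsonSpace Y := LocallyOfFiniteType.jacobsonSpace q
  haveI : JacobsonSpace X := LocallyOfFiniteType.jacobsonSpace f
  -- finiteness
  haveI : IsFinite f := by
    have hloc : ∀ y : Y, ∃ V : Y.Opens, y ∈ V ∧ IsFinite (f ∣_ V) := fun y => by
      obtain ⟨c, hc, hcc⟩ := nonempty_inter_closedPoints (Z := closure {y})
        (Set.singleton_nonempty y).closure isClosed_closure.isLocallyClosed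
      have hsub : (f ⁻¹' {c}).Subsingleton := by
        have h1 : (f ⁻¹' {c} ∩ closedPoints X).Subsingleton := fun a ha b hb =>
          hinj ha.2 hb.2 (ha.1.trans hb.1.symm)
        rw [← closure_inter_closedPoints (X := X) ((hcc : IsClosed {c}).preimage f.continuous)]
        rcases h1.eq_empty_or_singleton with e | ⟨a, e⟩
        · rw [e, closure_empty]; exact Set.subsingleton_empty
        · have ha : IsClosed ({a} : Set X) := (e ▸ Set.mem_singleton a : a ∈ f ⁻¹' {c} ∩ closedPoints X).2
          rw [e, ha.closure_eq]; exact Set.subsingleton_singleton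
      obtain ⟨V, hV, hfin⟩ := exists_isFinite_morphismRestrict_of_finite_preimage_singleton f c hsub.finite
      exact ⟨V, (specializes_iff_mem_closure.mpr hc).mem_open V.2 hV, hfin⟩
    choose V hV hVf using hloc
    exact (IsZariskiLocalAtTarget.iff_of_iSup_eq_top (P := @IsFinite) V
      (eq_top_iff.mpr fun y _ => Opens.mem_iSup.mpr ⟨y, hV y⟩)).mpr hVf
  rw [isClosedImmersion_iff_isAffineHom]
  refine ⟨inferInstance, fun V hV => ?_⟩
  let U := f ⁻¹ᵁ V
  have hU : IsAffineOpen U := hV.preimage f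
  letI : Algebra Γ(Y, V) Γ(X, U) := (f.app V).hom.toAlgebra
  haveI : Module.Finite Γ(Y, V) Γ(X, U) := f.finite_app V hV
  let κ := ((Scheme.ΓSpecIso (CommRingCat.of k)).inv ≫ q.appLE ⊤ V le_top).hom
  letI : Algebra k Γ(Y, V) := κ.toAlgebra
  haveI : Algebra.FiniteType k Γ(Y, V) := RingHom.finiteType_algebraMap.mp <| by
    rw [RingHom.algebraMap_toAlgebra]
    exact (q.finiteType_appLE (isAffineOpen_top _) hV le_top).comp
      (RingHom.FiniteType.of_surjective _ (ConcreteCategory.bijective_of_isIso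
        (Scheme.ΓSpecIso (CommRingCat.of k)).inv).2)
  -- closed points of the chart
  let pt : ∀ n : Ideal Γ(X, U), n.IsMaximal → X := fun n hn => hU.fromSpec ⟨n, hn.isPrime⟩
  have hptU : ∀ n hn, pt n hn ∈ U := fun n hn => hU.range_fromSpec.le ⟨_, rfl⟩
  have hclosed : ∀ n hn, IsClosed ({pt n hn} : Set X) := fun n hn => by
    apply isClosed_singleton_of_isLocallyClosed_singleton
    rw [← Set.image_singleton]
    exact (((PrimeSpectrum.isClosed_singleton_iff_isMaximal _).mpr hn).isLocallyClosed.image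
      hU.fromSpec.isEmbedding.isInducing hU.fromSpec.isOpenEmbedding.isOpen_range.isLocallyClosed)
  have hidx : ∀ n hn, hU.primeIdealOf ⟨pt n hn, hptU n hn⟩ = ⟨n, hn.isPrime⟩ := fun n hn =>
    hU.fromSpec.isOpenEmbedding.injective (hU.fromSpec_primeIdealOf ⟨pt n hn, hptU n hn⟩)
  have himg : ∀ n hn, (hV.primeIdealOf ⟨f (pt n hn), hptU n hn⟩).asIdeal =
      n.comap (f.app V).hom := fun n hn => by
    have h : hV.fromSpec (Spec.map (f.app V) ⟨n, hn.isPrime⟩) = f (pt n hn) := by
      rw [← Scheme.Hom.comp_apply, Scheme.Hom.app_eq_appLE, hV.SpecMap_appLE_fromSpec f hU le_rfl,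
        Scheme.Hom.comp_apply]
    have h2 := hV.fromSpec.isOpenEmbedding.injective
      ((hV.fromSpec_primeIdealOf ⟨f (pt n hn), hptU n hn⟩).trans h.symm)
    exact congrArg PrimeSpectrum.asIdeal h2
  refine surjective_of_cotangent (k := k) (fun n n' hn hn' e => ?_) fun n hn z hz => ?_
  · have h1 : f (pt n hn) = f (pt n' hn') := by
      rw [show f (pt n hn) = hV.fromSpec (hV.primeIdealOf ⟨f (pt n hn), hptU n hn⟩) from
          (hV.fromSpec_primeIdealOf ⟨f (pt n hn), hptU n hn⟩).symm,
        show f (pt n' hn') = hV.fromSpec (hV.primeIdealOf ⟨f (pt n' hn'), hptU n' hn'⟩) from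
          (hV.fromSpec_primeIdealOf ⟨f (pt n' hn'), hptU n' hn'⟩).symm]
      exact congrArg hV.fromSpec (PrimeSpectrum.ext ((himg n hn).trans (e.trans (himg n' hn').symm)))
    have h2 := hinj (hclosed n hn) (hclosed n' hn') h1
    exact congrArg PrimeSpectrum.asIdeal (hU.fromSpec.isOpenEmbedding.injective h2)
  · have hxU : pt n hn ∈ U := hptU n hn
    have hx := hT _ (hclosed n hn)
    generalize hp : pt n hn = x at hx hxU
    have hi : (hU.primeIdealOf ⟨x, hxU⟩).asIdeal = n := by
      subst hp; exact congrArg PrimeSpectrum.asIdeal (hidx n hn)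
    have hj : (hV.primeIdealOf ⟨f x, hxU⟩).asIdeal = n.comap (algebraMap Γ(Y, V) Γ(X, U)) := by
      subst hp; exact himg n hn
    letI := X.presheaf.algebra_section_stalk ⟨x, hxU⟩
    letI := Y.presheaf.algebra_section_stalk (U := V) ⟨f x, hxU⟩
    haveI : IsLocalization.AtPrime (X.presheaf.stalk x) (hU.primeIdealOf ⟨x, hxU⟩).asIdeal :=
      hU.isLocalization_stalk ⟨x, hxU⟩
    haveI : IsLocalization.AtPrime (Y.presheaf.stalk (f x)) (hV.primeIdealOf ⟨f x, hxU⟩).asIdeal :=
      hV.isLocalization_stalk ⟨f x, hxU⟩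
    have hmX : n.map (algebraMap Γ(X, U) (X.presheaf.stalk x)) =
        IsLocalRing.maximalIdeal (X.presheaf.stalk x) := by
      rw [← hi]; exact IsLocalization.AtPrime.map_eq_maximalIdeal _ _
    have hmY : ((n.comap (algebraMap Γ(Y, V) Γ(X, U))).map (algebraMap Γ(Y, V) Γ(X, U))).map
        (algebraMap Γ(X, U) (X.presheaf.stalk x)) =
        (IsLocalRing.maximalIdeal (Y.presheaf.stalk (f x))).map (f.stalkMap x).hom := by
      rw [← hj, ← IsLocalization.AtPrime.map_eq_maximalIdeal (hV.primeIdealOf ⟨f x, hxU⟩).asIdeal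
        (Y.presheaf.stalk (f x)), Ideal.map_map, Ideal.map_map]
      exact congrArg (fun r => Ideal.map r _)
        (congrArg CommRingCat.Hom.hom (Scheme.Hom.germ_stalkMap f V x hxU).symm)
    have h1 : algebraMap Γ(X, U) (X.presheaf.stalk x) z ∈
        ((n.comap (algebraMap Γ(Y, V) Γ(X, U))).map (algebraMap Γ(Y, V) Γ(X, U)) ⊔ n ^ 2).map
          (algebraMap Γ(X, U) (X.presheaf.stalk x)) := by
      rw [Ideal.map_sup, Ideal.map_pow, hmX, hmY, hx, ← hmX]
      exact Ideal.mem_map_of_mem _ hz
    obtain ⟨s, hs, hsz⟩ :=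
      (IsLocalization.algebraMap_mem_map_algebraMap_iff (hU.primeIdealOf ⟨x, hxU⟩).asIdeal.primeCompl
        (X.presheaf.stalk x) _ z).mp h1
    exact ⟨s, hi ▸ hs, hsz⟩

end Groth.Agent.Clim57
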